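import Mathlib.GroupTheory.Sylow
import Mathlib.GroupTheory.SemidirectProduct
import Mathlib.GroupTheory.QuotientGroup.Basic

/-!
Comparing Sylow subgroups of two groups through a common covering `p`-group.
-/

set_option autoImplicit false

namespace CfsgLib.LocalEven.SylowIso

variable {E D M : Type*} [Group E] [Group D] [Monoid M] {φ : D →* MulAut E}

/-- A homomorphism out of a semidirect product into a monoid. -/
def liftMonoid (A : E →* M) (B : D →* M) (h : ∀ d e, B d * A e = A (φ d e) * B d) :
    E ⋊[φ] D →* M where
  toFun x := A x.left * B x.right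
  map_one' := by simp
  map_mul' x y := by
    simp only [SemidirectProduct.mul_left, SemidirectProduct.mul_right, map_mul]
    rw [mul_assoc, mul_assoc, ← mul_assoc (B x.right), h, ← mul_assoc (A (φ _ _)), mul_assoc]

theorem liftMonoid_apply (A : E →* M) (B : D →* M) (h : ∀ d e, B d * A e = A (φ d e) * B d)
    (x : E ⋊[φ] D) : liftMonoid A B h x = A x.left * B x.right := rfl

variable {W G H : Type*} [Group W] [Finite W] [Group G] [Finite G] [Group H] [Finite H]
  {p : ℕ} [Fact p.Prime]

/-- The image of a `p`-group whose kernel has the right order is a Sylow subgroup. -/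
theorem range_equiv_sylow (f : W →* G) (hW : IsPGroup p W) {k n : ℕ} (hk : Nat.card f.ker = k)
    (hn : Nat.card W = p ^ n * k) (hG : (Nat.card G).factorization p = n) (P : Sylow p G) :
    Nonempty (f.range ≃* (P : Subgroup G)) := by
  have hR : Nat.card f.range = p ^ n := by
    rw [← Subgroup.index_ker]
    have h := Subgroup.card_mul_index f.ker
    rw [hk, hn, mul_comm (p ^ n) k] at h
    exact Nat.eq_of_mul_eq_mul_left (hk ▸ Nat.card_pos) h
  let R : Sylow p G := Sylow.ofCard f.range (by rw [hR, hG])
  exact ⟨(MulEquiv.refl _ : f.range ≃* (R : Subgroup G)).trans (R.equiv P)⟩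

/-- Two groups with a common covering `p`-group of their Sylow subgroups. -/
theorem sylow_equiv (f : W →* G) (g : W →* H) (hW : IsPGroup p W) (hker : f.ker = g.ker) {k n : ℕ}
    (hk : Nat.card f.ker = k) (hn : Nat.card W = p ^ n * k) (hG : (Nat.card G).factorization p = n)
    (hH : (Nat.card H).factorization p = n) (P : Sylow p G) (Q : Sylow p H) :
    Nonempty ((P : Subgroup G) ≃* (Q : Subgroup H)) := by
  obtain ⟨eP⟩ := range_equiv_sylow f hW hk hn hG P
  obtain ⟨eQ⟩ := range_equiv_sylow g hW (by rw [← hker]; exact hk) hn hH Q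
  exact ⟨eP.symm.trans ((QuotientGroup.quotientKerEquivRange f).symm.trans
    ((QuotientGroup.quotientMulEquivOfEq hker).trans
      ((QuotientGroup.quotientKerEquivRange g).trans eQ)))⟩

theorem factorization_two {N n m : ℕ} (h : N = 2 ^ n * m) (hm : ¬ 2 ∣ m) :
    N.factorization 2 = n := by
  have hm0 : m ≠ 0 := by rintro rfl; exact hm (dvd_zero 2)
  rw [h, Nat.factorization_mul (by positivity) hm0, Finsupp.add_apply,
    Nat.Prime.factorization_pow Nat.prime_two, Finsupp.single_eq_same,
    Nat.factorization_eq_zero_of_not_dvd hm, add_zero]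

end CfsgLib.LocalEven.SylowIso
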