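import Mathlib.GroupTheory.SpecificGroups.Quaternion
import Mathlib.GroupTheory.SpecificGroups.Alternating
import Cfsg.Agent.Lib.LocalEven.SylowIso.Basic
import Cfsg.Agent.Lib.Classical.SympOrder
import Cfsg.Agent.Lib.Classical.SympSimple
import Cfsg.Prelude.Def_Classical

/-!
`(Q₈ × Q₈) ⋊ 2` covers a Sylow 2-subgroup of `A₈` and of `PSp₄(3)`.
-/

set_option autoImplicit false
set_option maxRecDepth 8000

namespace CfsgLib.LocalEven.SylowIso.EightFour

open Matrix

abbrev Q8 : Type := QuaternionGroup 2

abbrev C2 : Type := Multiplicative (ZMod 2)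

/-- An involutory automorphism of `Q₈` exchanging two generators. -/
def thFun : Q8 → Q8
  | .a i => (QuaternionGroup.xa 0) ^ i.val
  | .xa i => QuaternionGroup.a 1 * (QuaternionGroup.xa 0) ^ i.val

theorem thFun_mul : ∀ x y : Q8, thFun (x * y) = thFun x * thFun y := by decide +kernel

theorem thFun_thFun : ∀ x : Q8, thFun (thFun x) = x := by decide +kernel

/-- The automorphism `thFun`. -/
def th : Q8 ≃* Q8 where
  toFun := thFun
  invFun := thFun
  left_inv := thFun_thFun
  right_inv := thFun_thFun
  map_mul' := thFun_mul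

/-- The swap of the two factors. -/
def swapAut : C2 →* MulAut (Q8 × Q8) where
  toFun z := if z = 1 then 1 else MulEquiv.prodComm
  map_one' := rfl
  map_mul' := by
    intro x y
    apply MulEquiv.ext
    revert x y
    decide +kernel

abbrev W : Type := (Q8 × Q8) ⋊[swapAut] C2

instance : Finite W := Finite.of_equiv _ SemidirectProduct.equivProd.symm

/-- Action of the two factors on the eight points. -/
def permA : Q8 × Q8 →* Equiv.Perm Q8 where
  toFun q :=
    { toFun := fun x => q.1 * x * (th q.2)⁻¹
      invFun := fun x => q.1⁻¹ * x * th q.2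
      left_inv := fun x => by simp [mul_assoc]
      right_inv := fun x => by simp [mul_assoc] }
  map_one' := by ext x; simp
  map_mul' a b := by ext x; simp [mul_assoc]

/-- The swap as a permutation of the eight points. -/
def swapPerm : Equiv.Perm Q8 where
  toFun x := (th x)⁻¹
  invFun x := (th x)⁻¹
  left_inv := by decide +kernel
  right_inv := by decide +kernel

/-- The swap. -/
def permB : C2 →* Equiv.Perm Q8 where
  toFun z := if z = 1 then 1 else swapPerm
  map_one' := rfl
  map_mul' := by
    intro x y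
    apply Equiv.ext
    revert x y
    decide +kernel

theorem perm_compat (d : C2) (e : Q8 × Q8) :
    permB d * permA e = permA (swapAut d e) * permB d := by
  apply Equiv.ext
  revert d e
  decide +kernel

/-- The eight points numbered. -/
def idx : Q8 ≃ Fin 8 where
  toFun x :=
    match x with
    | .a i => ⟨i.val, by have := ZMod.val_lt i; omega⟩
    | .xa i => ⟨i.val + 4, by have := ZMod.val_lt i; omega⟩
  invFun j := if j.val < 4 then .a (j.val : ZMod (2 * 2)) else .xa ((j.val - 4 : ℕ) : ZMod (2 * 2))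
  left_inv := by decide +kernel
  right_inv := by decide +kernel

/-- The action on `Fin 8`. -/
def toPerm : W →* Equiv.Perm (Fin 8) :=
  idx.permCongrHom.toMonoidHom.comp (liftMonoid permA permB perm_compat)

theorem sign_permA : ∀ q : Q8 × Q8, Equiv.Perm.sign (idx.permCongr (permA q)) = 1 := by
  decide +kernel

theorem sign_permB : ∀ z : C2, Equiv.Perm.sign (idx.permCongr (permB z)) = 1 := by
  decide +kernel

theorem toPerm_apply (w : W) :
    toPerm w = idx.permCongr (permA w.left) * idx.permCongr (permB w.right) := by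
  exact map_mul idx.permCongrHom.toMonoidHom (permA w.left) (permB w.right)

/-- The action in the alternating group. -/
def toAlt : W →* alternatingGroup (Fin 8) :=
  toPerm.codRestrict (alternatingGroup (Fin 8)) (fun w => by
    rw [Equiv.Perm.mem_alternatingGroup, toPerm_apply, map_mul, sign_permA, sign_permB, mul_one])

def matI : Matrix (Fin 2) (Fin 2) (ZMod 3) := !![0, 2; 1, 0]

def matX : Matrix (Fin 2) (Fin 2) (ZMod 3) := !![1, 1; 1, 2]

/-- `Q₈` inside `SL₂(3)`. -/
def q8mat : Q8 → Matrix (Fin 2) (Fin 2) (ZMod 3)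
  | .a i => matI ^ i.val
  | .xa i => matX * matI ^ i.val

/-- The block diagonal matrix of a pair. -/
def blockFun (q : Q8 × Q8) : Matrix (Fin 2 ⊕ Fin 2) (Fin 2 ⊕ Fin 2) (ZMod 3) :=
  fromBlocks (diagonal ![q8mat q.1 0 0, q8mat q.2 0 0]) (diagonal ![q8mat q.1 0 1, q8mat q.2 0 1])
    (diagonal ![q8mat q.1 1 0, q8mat q.2 1 0]) (diagonal ![q8mat q.1 1 1, q8mat q.2 1 1])

theorem q8mat_mul : ∀ x y : Q8, q8mat (x * y) = q8mat x * q8mat y := by decide +kernel

theorem blockFun_mem : ∀ q : Q8 × Q8, blockFun q ∈ Matrix.symplecticGroup (Fin 2) (ZMod 3) := by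
  intro q
  rw [SymplecticGroup.mem_iff]
  revert q
  decide +kernel

theorem blockFun_mul (a b : Q8 × Q8) : blockFun (a * b) = blockFun a * blockFun b := by
  simp only [blockFun, Prod.fst_mul, Prod.snd_mul, q8mat_mul, fromBlocks_multiply,
    diagonal_mul_diagonal, diagonal_add]
  congr 1 <;>
  · refine congrArg diagonal (funext fun i => ?_)
    fin_cases i <;> simp [Matrix.mul_apply, Fin.sum_univ_two]

theorem blockFun_one : blockFun 1 = 1 := by decide +kernel

/-- The two factors in the symplectic group. -/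
def spA : Q8 × Q8 →* Matrix.symplecticGroup (Fin 2) (ZMod 3) where
  toFun q := ⟨blockFun q, blockFun_mem q⟩
  map_one' := Subtype.ext blockFun_one
  map_mul' a b := Subtype.ext (blockFun_mul a b)

def swapMat : Matrix (Fin 2 ⊕ Fin 2) (Fin 2 ⊕ Fin 2) (ZMod 3) :=
  fromBlocks !![0, 1; 1, 0] 0 0 !![0, 1; 1, 0]

/-- The swap in the symplectic group. -/
def spB : C2 →* Matrix.symplecticGroup (Fin 2) (ZMod 3) where
  toFun z := ⟨if z = 1 then 1 else swapMat, by
    rw [SymplecticGroup.mem_iff]
    revert z
    decide +kernel⟩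
  map_one' := Subtype.ext rfl
  map_mul' := by
    intro x y
    apply Subtype.ext
    revert x y
    decide +kernel

theorem sp_compat (d : C2) (e : Q8 × Q8) :
    spB d * spA e = spA (swapAut d e) * spB d := by
  apply Subtype.ext
  revert d e
  decide +kernel

/-- The map into `Sp₄(3)`. -/
def toSp : W →* Matrix.symplecticGroup (Fin 2) (ZMod 3) := liftMonoid spA spB sp_compat

/-- The map into `PSp₄(3)`. -/
def toPSp : W →* Cfsg.PSp 2 (ZMod 3) := (QuotientGroup.mk' _).comp toSp

theorem kernel_match : ∀ (e : Q8 × Q8) (z : C2),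
    ((∀ j, (idx.permCongr (permA e)) ((idx.permCongr (permB z)) j) = j) ↔
      ((blockFun e * (spB z).1 = 1) ∨ (blockFun e * (spB z).1 = -1))) ∧
    ((∀ j, (idx.permCongr (permA e)) ((idx.permCongr (permB z)) j) = j) ↔
      (z = 1 ∧ (e = 1 ∨ e = (QuaternionGroup.a 2, QuaternionGroup.a 2)))) := by
  decide +kernel

theorem mem_ker_toAlt (w : W) :
    w ∈ toAlt.ker ↔ ∀ j, (idx.permCongr (permA w.left)) ((idx.permCongr (permB w.right)) j) = j := by
  rw [MonoidHom.mem_ker, Subtype.ext_iff]
  show toPerm w = 1 ↔ _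
  rw [toPerm_apply, Equiv.ext_iff]
  rfl

theorem mem_ker_toPSp (w : W) :
    w ∈ toPSp.ker ↔
      (blockFun w.left * (spB w.right).1 = 1 ∨ blockFun w.left * (spB w.right).1 = -1) := by
  rw [MonoidHom.mem_ker]
  show QuotientGroup.mk' _ (toSp w) = 1 ↔ _
  rw [QuotientGroup.mk'_apply, QuotientGroup.eq_one_iff]
  exact CfsgLib.Classical.mem_center_sp_iff

theorem ker_eq : toAlt.ker = toPSp.ker := by
  ext w
  rw [mem_ker_toAlt, mem_ker_toPSp]
  exact (kernel_match w.left w.right).1

theorem card_ker : Nat.card toAlt.ker = 2 := by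
  rw [Nat.card_eq_two_iff]
  refine ⟨⟨1, Subgroup.one_mem _⟩,
    ⟨SemidirectProduct.inl (QuaternionGroup.a 2, QuaternionGroup.a 2), ?_⟩, ?_, ?_⟩
  · rw [mem_ker_toAlt]
    exact (kernel_match _ _).2.mpr ⟨rfl, Or.inr rfl⟩
  · intro h
    have h' := congrArg (fun x : toAlt.ker => x.1.left) h
    revert h'
    simp
    decide
  · refine Set.eq_univ_of_forall fun x => ?_
    rcases (kernel_match x.1.left x.1.right).2.mp ((mem_ker_toAlt x.1).mp x.2) with ⟨hz, he | he⟩
    · exact Or.inl (Subtype.ext (SemidirectProduct.ext he hz))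
    · exact Or.inr (Subtype.ext (SemidirectProduct.ext he hz))

theorem card_W : Nat.card W = 2 ^ 6 * 2 := by
  rw [SemidirectProduct.card, Nat.card_prod]
  simp only [Nat.card_eq_fintype_card]
  decide +kernel

theorem factorization_alt : (Nat.card (alternatingGroup (Fin 8))).factorization 2 = 6 := by
  rw [nat_card_alternatingGroup, Nat.card_fin]
  exact factorization_two (m := 315) (by decide +kernel) (by decide)

theorem card_pSp : Nat.card (Cfsg.PSp 2 (ZMod 3)) = 25920 := by
  have h := Subgroup.card_eq_card_quotient_mul_card_subgroup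
    (Subgroup.center (Matrix.symplecticGroup (Fin 2) (ZMod 3)))
  rw [CfsgLib.Classical.card_symplecticGroup, CfsgLib.Classical.card_center_sp] at h
  simp [Finset.prod_range_succ] at h
  norm_num at h
  show Nat.card (Matrix.symplecticGroup (Fin 2) (ZMod 3) ⧸ _) = _
  omega

end CfsgLib.LocalEven.SylowIso.EightFour
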