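import Mathlib.GroupTheory.SpecificGroups.Dihedral
import Cfsg.Agent.Lib.LocalEven.SylowIso.Basic
import Cfsg.Prelude.Def_Classical

/-!
`2 wr D₈` covers a Sylow 2-subgroup of `S₈` and of `O₆⁻(2)`.
-/

set_option autoImplicit false
set_option maxRecDepth 8000

namespace CfsgLib.LocalEven.SylowIso.SixMinus

open Matrix

abbrev E4 : Type := Multiplicative (Fin 4 → ZMod 2)

abbrev D8 : Type := DihedralGroup 4

/-- The dihedral group on four points. -/
def dPerm : D8 → Equiv.Perm (ZMod 4)
  | .r i => Equiv.addRight i
  | .sr i => (Equiv.addRight i).trans (Equiv.neg (ZMod 4))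

theorem dPerm_mul : ∀ x y : D8, dPerm (x * y) = dPerm x * dPerm y := by
  intro x y
  apply Equiv.ext
  revert x y
  decide +kernel

/-- `dPerm` on `Fin 4`. -/
def dHom : D8 →* Equiv.Perm (Fin 4) where
  toFun x := (show ZMod 4 ≃ ZMod 4 from dPerm x)
  map_one' := by apply Equiv.ext; decide +kernel
  map_mul' x y := dPerm_mul x y

/-- The permutation action on `E4`. -/
def dAut : D8 →* MulAut E4 where
  toFun x :=
    { toFun := fun e => Multiplicative.ofAdd fun j => e.toAdd ((dHom x).symm j)
      invFun := fun e => Multiplicative.ofAdd fun j => e.toAdd (dHom x j)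
      left_inv := fun e => by simp
      right_inv := fun e => by simp
      map_mul' := fun _ _ => rfl }
  map_one' := by apply MulEquiv.ext; intro e; rw [map_one]; rfl
  map_mul' x y := by apply MulEquiv.ext; intro e; rw [map_mul]; rfl

abbrev W : Type := E4 ⋊[dAut] D8

instance : Finite W := Finite.of_equiv _ SemidirectProduct.equivProd.symm

abbrev Pt : Type := Fin 4 × ZMod 2

/-- Flips inside the four pairs. -/
def permA : E4 →* Equiv.Perm Pt where
  toFun e :=
    { toFun := fun q => (q.1, q.2 + e.toAdd q.1)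
      invFun := fun q => (q.1, q.2 - e.toAdd q.1)
      left_inv := fun q => by simp
      right_inv := fun q => by simp }
  map_one' := by ext q <;> simp
  map_mul' a b := by ext q <;> simp [add_comm, add_left_comm]

/-- Permutations of the four pairs. -/
def permB : D8 →* Equiv.Perm Pt where
  toFun x := (dHom x).prodCongr (Equiv.refl _)
  map_one' := by rw [map_one]; rfl
  map_mul' x y := by rw [map_mul]; rfl

theorem perm_compat (d : D8) (e : E4) : permB d * permA e = permA (dAut d e) * permB d := by
  apply Equiv.ext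
  intro q
  simp [permA, permB, dAut, Equiv.prodCongr]

/-- The eight points numbered. -/
def idx : Pt ≃ Fin 8 where
  toFun q := ⟨2 * q.1.val + q.2.val, by
    have h : q.2.val < 2 := ZMod.val_lt q.2
    have := q.1.isLt
    omega⟩
  invFun j := (⟨j.val / 2, by omega⟩, (j.val : ZMod 2))
  left_inv := by decide +kernel
  right_inv := by decide +kernel

/-- The map into `S₈`. -/
def toPerm : W →* Equiv.Perm (Fin 8) :=
  idx.permCongrHom.toMonoidHom.comp (liftMonoid permA permB perm_compat)

abbrev I : Type := (Fin 2 ⊕ Fin 2) ⊕ Fin 2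

abbrev V : Type := I → ZMod 2

/-- The coordinates `(t, J)` of a vector. -/
def enc (v : V) : ZMod 2 × (Fin 5 → ZMod 2) :=
  let f := v (.inl (.inr 0))
  let x := v (.inl (.inl 1))
  let y := v (.inl (.inr 1))
  let a := v (.inr 0)
  let b := v (.inr 1)
  (v (.inl (.inl 0)), ![f + x + y + a, f + x + y + a + b, f + x + y + b, f + x, f + y])

/-- The vector with given coordinates. -/
def dec (q : ZMod 2 × (Fin 5 → ZMod 2)) : V :=
  let c := ∑ i, q.2 i
  let x := q.2 3 + c
  let y := q.2 4 + c
  Sum.elim (Sum.elim ![q.1, x] ![c, y]) ![q.2 0 + c + x + y, q.2 2 + c + x + y]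

/-- The fifth flip. -/
def ext5 (e : E4) : Fin 5 → ZMod 2 :=
  ![e.toAdd 0, e.toAdd 1, e.toAdd 2, e.toAdd 3, e.toAdd 0 + e.toAdd 1 + e.toAdd 2 + e.toAdd 3]

/-- Half the weight of an even vector. -/
def halfWt (w : Fin 5 → ZMod 2) : ZMod 2 :=
  w 0 * (w 1 + w 2 + w 3 + w 4) + w 1 * (w 2 + w 3 + w 4) + w 2 * (w 3 + w 4) + w 3 * w 4

/-- The action of a flip. -/
def actA (e : E4) (v : V) : V :=
  let q := enc v
  let w := ext5 e
  let c := ∑ i, q.2 i
  dec (q.1 + ∑ i, q.2 i * w i + c * halfWt w, fun i => q.2 i + c * w i)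

/-- The action of a permutation of the pairs. -/
def actB (x : D8) (v : V) : V :=
  let q := enc v
  dec (q.1, ![q.2 ((dHom x).symm 0).castSucc, q.2 ((dHom x).symm 1).castSucc,
    q.2 ((dHom x).symm 2).castSucc, q.2 ((dHom x).symm 3).castSucc, q.2 4])

/-- The matrix of a map. -/
def matOf (f : V → V) : Matrix I I (ZMod 2) := Matrix.of fun i k => f (Pi.single k 1) i

/-- The flips as matrices. -/
def matA : E4 →* Matrix I I (ZMod 2) where
  toFun e := matOf (actA e)
  map_one' := by decide +kernel
  map_mul' := by decide +kernel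

/-- The permutations as matrices. -/
def matB : D8 →* Matrix I I (ZMod 2) where
  toFun x := matOf (actB x)
  map_one' := by decide +kernel
  map_mul' := by decide +kernel

theorem mat_compat : ∀ (d : D8) (e : E4), matB d * matA e = matA (dAut d e) * matB d := by
  decide +kernel

/-- The minus form. -/
def form (v : V) : ZMod 2 := Cfsg.quadFormMinus 2 (ZMod 2) 1 1 v

theorem matA_form : ∀ (e : E4) (v : V), form (matA e *ᵥ v) = form v := by decide +kernel

theorem matB_form : ∀ (x : D8) (v : V), form (matB x *ᵥ v) = form v := by decide +kernel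

/-- The action on the six-dimensional space. -/
def toMat : W →* Matrix I I (ZMod 2) := liftMonoid matA matB mat_compat

theorem toMat_form (w : W) (v : V) : form (toMat w *ᵥ v) = form v := by
  rw [toMat, liftMonoid_apply, ← Matrix.mulVec_mulVec, matA_form, matB_form]

variable {K : Type*} [Field K]

/-- The action over an isomorphic field. -/
def toMatK (e : ZMod 2 ≃+* K) : W →* Matrix I I K :=
  e.toRingHom.mapMatrix.toMonoidHom.comp toMat

theorem toMatK_mem (e : ZMod 2 ≃+* K) (w : W) :
    (toMatK e).toHomUnits w ∈ Cfsg.isometryGroup K (Cfsg.quadFormMinus 2 K 1 1) := by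
  intro u v
  show Cfsg.quadFormMinus 2 K 1 1 (toMatK e w *ᵥ u) = Cfsg.quadFormMinus 2 K 1 1 u
  have hform : ∀ x : V, Cfsg.quadFormMinus 2 K 1 1 (fun i => e (x i)) = e (form x) := by
    intro x
    simp only [form, Cfsg.quadFormMinus, map_add, map_mul, map_pow, map_one, map_sum, one_mul, mul_one]
  have hu : u = fun i => e (e.symm (u i)) := by simp
  have hmul : toMatK e w *ᵥ u = fun i => e ((toMat w *ᵥ fun j => e.symm (u j)) i) := by
    funext i
    conv_lhs => rw [hu]
    exact (RingHom.map_mulVec e.toRingHom (toMat w) _ i).symm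
  rw [hmul, hform, toMat_form, ← hform]
  simp

/-- The map into the isometry group. -/
def toOrth (e : ZMod 2 ≃+* K) : W →* Cfsg.isometryGroup K (Cfsg.quadFormMinus 2 K 1 1) :=
  (toMatK e).toHomUnits.codRestrict _ (toMatK_mem e)

theorem perm_injective : ∀ (e : E4) (x : D8),
    (∀ q, permA e (permB x q) = q) → e = 1 ∧ x = 1 := by decide +kernel

theorem mat_injective : ∀ (e : E4) (x : D8),
    matA e * matB x = 1 → e = 1 ∧ x = 1 := by decide +kernel

theorem ker_toPerm : toPerm.ker = ⊥ := by
  rw [Subgroup.eq_bot_iff_forall]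
  intro w hw
  rw [MonoidHom.mem_ker] at hw
  have h : liftMonoid permA permB perm_compat w = 1 :=
    idx.permCongrHom.injective (hw.trans (map_one _).symm)
  obtain ⟨h1, h2⟩ := perm_injective w.left w.right fun q => Equiv.ext_iff.1 h q
  exact SemidirectProduct.ext h1 h2

theorem ker_toOrth (e : ZMod 2 ≃+* K) : (toOrth e).ker = ⊥ := by
  rw [Subgroup.eq_bot_iff_forall]
  intro w hw
  rw [MonoidHom.mem_ker, Subtype.ext_iff, Units.ext_iff] at hw
  have h : toMat w = 1 := by
    have h0 : e.toRingHom.mapMatrix (toMat w) = 1 := hw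
    ext i j
    apply e.injective
    have := congrFun (congrFun h0 i) j
    rw [Matrix.one_apply] at this ⊢
    split_ifs with hij <;> simp [hij] at this ⊢ <;> exact this
  obtain ⟨h1, h2⟩ := mat_injective w.left w.right h
  exact SemidirectProduct.ext h1 h2

theorem card_W : Nat.card W = 2 ^ 7 * 1 := by
  rw [SemidirectProduct.card]
  simp only [Nat.card_eq_fintype_card]
  decide +kernel

theorem factorization_perm : (Nat.card (Equiv.Perm (Fin 8))).factorization 2 = 7 := by
  rw [Nat.card_perm, Nat.card_fin]
  exact factorization_two (m := 315) (by decide +kernel) (by decide)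

end CfsgLib.LocalEven.SylowIso.SixMinus
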